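import Cfsg.Agent.H310.Car.E6Row
import Cfsg.Agent.KFacts.RgdFiltChev
import Cfsg.Agent.KFacts.RgdFiltTwAll

/-!
# S3852: the rows `E₆(q)`, `²E₆(q)`, `q` even, from `OCSt` (helper310)
-/

set_option autoImplicit false
set_option linter.unusedSectionVars false

namespace Cfsg.Agent.H310.E6

open Subgroup Cfsg.Lie Cfsg.Agent.Solvable.Carter Cfsg.Agent.H18.Carter Cfsg.Agent.H381.Car
open Cfsg.Agent.H607.Car (OCSt)

universe u

variable {G : Type u} [Group G] [Finite G] {S : Subgroup G} [S.Normal]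

/-- `E₆(q)`, `q` even -/
theorem row_e6_even (hFp : Fpf.{u}) (hFT : Cfsg.Agent.H460.Car.FT.{u}) (hE : Cfsg.Agent.H460.Car.ExcOk.{u})
    (c : Ctx G S) (IH : IHr G) {F : Type} [Field F] [Fintype F] [CharP F 2] (hX : OCSt ↥(chevE6.group F))
    (e : S ≃* chevE6.group F) : NrAll S :=
  nrAll_of_ocSt hFp hFT hE c IH hX
    (Cfsg.Agent.KFacts.RgdFiltChev.hasFilt_of_exceptional (p := 2)
      ⟨F, inferInstance, inferInstance, inferInstance, Or.inr (Or.inr (Or.inl ⟨e⟩))⟩) e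

/-- `²E₆(q)`, `q` even -/
theorem row_twe6_even (hFp : Fpf.{u}) (hFT : Cfsg.Agent.H460.Car.FT.{u}) (hE : Cfsg.Agent.H460.Car.ExcOk.{u})
    (c : Ctx G S) (IH : IHr G) {K : Type} [Field K] [Fintype K] [CharP K 2] {q : ℕ} (hq : IsPrimePow q)
    (hK : Fintype.card K = q ^ 2) (hX : OCSt ↥(twistedE6 K q)) (e : S ≃* twistedE6 K q) : NrAll S :=
  nrAll_of_ocSt hFp hFT hE c IH hX
    (Cfsg.Agent.KFacts.RgdFiltTwAll.hasFilt_of_twisted (p := 2)
      ⟨K, inferInstance, inferInstance, inferInstance, q, hq, Or.inl ⟨hK, ⟨e⟩⟩⟩) e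

end Cfsg.Agent.H310.E6
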