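import Cfsg.Agent.H310.Car.E6Oc
import Cfsg.Agent.BpExc.RowsUntw

/-!
# T6: `InvZ` from `GoodSt` and `AutSt` (helper310, for S3852)
-/

set_option autoImplicit false
set_option linter.unusedSectionVars false

namespace Cfsg.Agent.H310.E6

open CoxeterSystem Subgroup Cfsg Cfsg.Lie Cfsg.Lie.ChevalleyDatum
open Cfsg.Agent.ChevalleyStructure Cfsg.Agent.ChevalleyStructure.Elts Cfsg.Agent.ChevalleyStructure.CoxeterGeom
  Cfsg.Agent.ChevalleyStructure.CoxeterGeomTypes Cfsg.Agent.ChevalleyStructure.NPerm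
open Cfsg.Agent.Tits.Roots Cfsg.Agent.Tits.Core Cfsg.Agent.Nodes Cfsg.Agent.Nodes.Reps Cfsg.Agent.Nodes.BNOf
  Cfsg.Agent.Nodes.RGDChev Cfsg.Agent.Nodes.Bruhat
open Cfsg.Agent.KFacts.RgdField Cfsg.Agent.KFacts.RgdChevCoord
open Cfsg.Agent.BpExc Cfsg.Agent.BpExc.TorCent Cfsg.Agent.BpExc.TorChev Cfsg.Agent.BpExc.Tow
open Cfsg.Agent.BpExc.TowChev Cfsg.Agent.BpExc.Fr Cfsg.Agent.BpExc.LangFr
open Cfsg.Agent.BpExc.FamUntw Cfsg.Agent.Nodes.Coroot Cfsg.Agent.Nodes.SubComb Cfsg.Agent.Tits.RootComb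
open Cfsg.Agent.BpExc.FamInst
open Cfsg.Agent.H696.GmnToral Cfsg.Agent.H696.GmnTor Cfsg.Agent.H720.TwFr Cfsg.Agent.H607.Car

section

variable {r : ℕ} [Fact r.Prime]

/-- the field automorphisms act on the torus by powers -/
theorem phi_T (j : ℕ) {t : Yb r} (ht : t ∈ Tb r) : phi chevE6 (Kb r) r j t = t ^ r ^ j := by
  have hk : LocFin (Kb r) := locFin_of_isAlgebraic r _
  have hZ : center (Yb r) = ⊥ := Cfsg.Agent.H696.GmnUntw.center_eq_bot_of_simple (S1054.result chevE6 (by simp))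
  have F : Fr cs6 hp6.isCartan (TT chevE6 (Kb r)) (XX chevE6 6 (Kb r)) (phi chevE6 (Kb r) r j) (AddEquiv.refl _) :=
    phi_fr hp6 cs6 r hk j
  refine ext_TT hp6 cs6 hk r hZ ((F.tor t).2 ht) (pow_mem ht _) fun a ha => ?_
  have h1 := fr_ch hp6 cs6 hk (phi_isFrob (D := chevE6) (k := Kb r) (r := r) j) F ha ht
  rw [ch_pow hp6 cs6 hk r ha ht]
  exact h1

/-- a torus element with given characters -/
theorem exists_sign (m : Fin 6 → ℤ) : ∃ a0 ∈ Tb r, ∀ a, IsRoot cs6 hp6.isCartan a →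
    ch hp6 a a0 = (-1 : Kb r) ^ (val m a) := by
  obtain ⟨t, ht, htc⟩ := exists_tt (k := Kb r) hp6 cs6 H129.TorusChar.invC_E6 (by norm_num)
    (fun i => (-1 : Kb r) ^ m i) (fun i => zpow_ne_zero _ (neg_ne_zero.2 one_ne_zero))
  refine ⟨t, ht, fun a ha => ?_⟩
  rw [htc a ha, val]
  have h1 : ∀ s : Finset (Fin 6), ∏ i ∈ s, ((-1 : Kb r) ^ m i) ^ a i = (-1 : Kb r) ^ (∑ i ∈ s, a i • m i) := by
    intro s
    classical
    induction s using Finset.induction_on with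
    | empty => simp
    | insert i s hi ih =>
      rw [Finset.prod_insert hi, Finset.sum_insert hi, ih, zpow_add₀ (neg_ne_zero.2 one_ne_zero), ← zpow_mul,
        smul_eq_mul, mul_comm (m i)]
  exact h1 _

variable {n : ℕ} {ε : ℤ} {X : Type} [Group X] {ι : X →* Yb r} {σ : MulAut (Yb r)}

/-- the element `u` with `u (t ^ r ^ j) u⁻¹ = t` centralises `a0` -/
theorem comm_a0 (hι : Function.Injective ι) {z : X} {v t : Yb r} {m : Fin 6 → ℤ} (g : GoodAt r n ε ι σ z v t m)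
    (hrig : Rigid z) {a0 : Yb r} (ha0 : a0 ∈ Tb r)
    (hch : ∀ a, IsRoot cs6 hp6.isCartan a → ch hp6 a a0 = (-1 : Kb r) ^ (val m a)) {u : Yb r} {k : ℕ}
    (hu : u * t ^ k * u⁻¹ = t) : u * a0 * u⁻¹ = a0 := by
  have hfin : Finite W6 := finite_W hp6 cs6
  have hk : LocFin (Kb r) := locFin_of_isAlgebraic r _
  have hTL : TL (Tj hp6 (k := Kb r)) = Tb r := TL_eq hp6 hk
  have hXL : XL (Xj hp6 (k := Kb r)) = XX chevE6 6 (Kb r) := XL_eq hp6 hk
  have C : Coords cs6 hp6.isCartan (TL (Tj hp6 (k := Kb r))) (nc hp6 (Kb r)) (XL (Xj hp6 (k := Kb r))) (xc hp6)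
      (ch hp6) := by
    rw [hTL, hXL]; exact coordsL hp6 cs6 hk r
  have ht' : t ∈ TL (Tj hp6 (k := Kb r)) := by rw [hTL]; exact g.mem
  obtain ⟨c, hc, w, b, hb, hbt, rfl⟩ := Fr.exists_form (tow hp6 cs6 hk r (k := Kb r)) C (pow_mem ht' k) ht' (c := u)
    (by rw [GG_eq_top hp6 cs6 hk]; exact Subgroup.mem_top _) (mul_inv_eq_iff_eq_mul.1 hu)
  -- the element of `X`
  obtain ⟨x, hx⟩ := g.rep w
  have hTk : t ^ k ∈ Tb r := pow_mem g.mem k
  have h1 : (v⁻¹ * ι x * v) * t ^ k * (v⁻¹ * ι x * v)⁻¹ = t := by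
    have h2 := hb.unique hx
    rw [hTL] at h2
    have h3 : v⁻¹ * ι x * v = b * (b⁻¹ * (v⁻¹ * ι x * v)) := by group
    obtain ⟨s, hs⟩ : ∃ s, s = b⁻¹ * (v⁻¹ * ι x * v) := ⟨_, rfl⟩
    rw [← hs] at h2 h3
    rw [h3]
    have h4 : s * t ^ k = t ^ k * s := Tb_comm h2 hTk
    calc b * s * t ^ k * (b * s)⁻¹ = b * (s * t ^ k) * s⁻¹ * b⁻¹ := by group
      _ = b * t ^ k * b⁻¹ := by rw [h4]; group
      _ = t := by rw [hbt]; group
  have h2 : x * z ^ k * x⁻¹ = z := by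
    apply hι
    rw [map_mul, map_mul, map_inv, map_pow, g.eq, conj_pow]
    calc ι x * (v * t ^ k * v⁻¹) * (ι x)⁻¹ = v * ((v⁻¹ * ι x * v) * t ^ k * (v⁻¹ * ι x * v)⁻¹) * v⁻¹ := by group
      _ = _ := by rw [h1]
  have h3 : x⁻¹ * z * x⁻¹⁻¹ = z ^ k := by
    rw [inv_inv]
    calc x⁻¹ * z * x = x⁻¹ * (x * z ^ k * x⁻¹) * x := by rw [h2]
      _ = z ^ k := by group
  have h4 := hrig x⁻¹ (by rw [h3]; exact pow_mem (mem_zpowers z) k)
  rw [h3] at h4
  have h5 : t ^ k = t := by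
    have h6 := congrArg ι h4
    rw [map_pow, g.eq, conj_pow] at h6
    exact mul_left_cancel (mul_right_cancel h6)
  rw [h5] at hbt
  -- the action on `a0`
  have hbt' : b * t * b⁻¹ = t := by rw [hbt]; group
  have h6 : ∀ a, IsRoot cs6 hp6.isCartan a → ch hp6 (rp w a) t = ch hp6 a t := by
    intro a ha
    have h7 := C.chi_rp _ hb ha (t := t) ht'
    rwa [hbt'] at h7
  have hF := g.fixm w h6
  have h7 : b * a0 * b⁻¹ = a0 := by
    refine comm_of_fix ha0 hb fun a ha => ?_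
    have h8 : IsRoot cs6 hp6.isCartan (rp w a) := ha.act w
    rw [hch _ h8, hch _ ha, hF a]
  have h8 : c * a0 = a0 * c := by
    have h9 : MM cs6 hp6.isCartan (XL (Xj hp6 (k := Kb r))) (ch hp6) t ≤ Subgroup.centralizer {a0} := by
      refine RGD.Sup_le fun a ha => ?_
      refine X_le_centralizer C (x := a0) (by rw [hTL]; exact ha0) ⟨ha.1, ?_⟩
      rw [hch a ha.1, (g.ker a ha.1).1 ha.2, zpow_zero]
    exact mem_centralizer_singleton_iff.1 (h9 hc)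
  calc c * b * a0 * (c * b)⁻¹ = c * (b * a0 * b⁻¹) * c⁻¹ := by group
    _ = c * a0 * c⁻¹ := by rw [h7]
    _ = a0 := by rw [h8]; group

/-- **T6** -/
theorem invZ (h : Six r n ε ι σ) (hr2 : r ≠ 2) (hG : GoodSt r n ε ι σ) (hA : AutSt r ι) : InvZ r X := by
  intro z hz hz2 hzr hrig
  obtain ⟨v, t, m, g⟩ := hG z hz hz2 hzr hrig
  have hk : LocFin (Kb r) := locFin_of_isAlgebraic r _
  have hZ : center (Yb r) = ⊥ := Cfsg.Agent.H696.GmnUntw.center_eq_bot_of_simple (S1054.result chevE6 (by simp))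
  obtain ⟨a0, ha0, hch⟩ := exists_sign (r := r) m
  have h2 : (2 : Kb r) ≠ 0 := by
    intro h2
    have h3 : ((2 : ℕ) : Kb r) = 0 := by exact_mod_cast h2
    have h4 := (CharP.cast_eq_zero_iff (Kb r) r 2).1 h3
    exact hr2 ((Nat.prime_dvd_prime_iff_eq (Fact.out : r.Prime) Nat.prime_two).1 h4)
  have hsq : a0 * a0 = 1 := by
    refine eq_one_TT hp6 cs6 hk r hZ (mul_mem ha0 ha0) fun a ha => ?_
    rw [ch_mul hp6 cs6 hk r ha ha0 ha0, hch a ha, ← mul_zpow]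
    norm_num
  have hne : a0 ≠ 1 := by
    intro h1
    obtain ⟨i, hi⟩ := g.odd
    have h3 := hch (sr i) (isRoot_sr cs6 hp6.isCartan i)
    have h4 : val m (sr i) = m i := by
      unfold val
      rw [Finset.sum_eq_single i]
      · rw [sr_self, one_smul]
      · intro j _ hj
        rw [sr_ne hj, zero_smul]
      · intro h; exact absurd (Finset.mem_univ _) h
    rw [h4, h1, ch_one hp6 cs6 hk r (isRoot_sr cs6 hp6.isCartan i), hi.neg_one_zpow] at h3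
    apply h2
    linear_combination h3
  have hpow : ∀ k : ℕ, Odd k → a0 ^ k = a0 := by
    rintro k ⟨c, rfl⟩
    rw [pow_succ, pow_mul, pow_two, hsq, one_pow, one_mul]
  have hrodd : Odd r := (Fact.out : r.Prime).odd_of_ne_two hr2
  -- `a` is fixed by `σ`
  have hfix : σ (v * a0 * v⁻¹) = v * a0 * v⁻¹ := by
    rw [g.act a0 ha0]
    have h3 : a0 ^ (ε * (r : ℤ) ^ n) = a0 := by
      have h4 : a0 ^ ((r : ℤ) ^ n) = a0 := by
        have h5 := hpow (r ^ n) hrodd.pow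
        rw [← zpow_natCast] at h5
        push_cast at h5
        exact h5
      rcases h.eps with h5 | h5 <;> rw [h5, mul_comm, zpow_mul, h4]
      · rw [zpow_one]
      · rw [zpow_neg, zpow_one]
        exact inv_eq_of_mul_eq_one_left hsq
    rw [h3]
  obtain ⟨x0, hx0⟩ := h.desc _ hfix
  have hodd3 : Odd (Int.gcd 3 ((r : ℤ) ^ n - ε)) := by
    have h3 : Int.gcd 3 ((r : ℤ) ^ n - ε) ∣ 3 := by
      have h4 := Int.gcd_dvd_left (3 : ℤ) ((r : ℤ) ^ n - ε)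
      exact_mod_cast h4
    rcases (Nat.dvd_prime Nat.prime_three).1 h3 with h4 | h4 <;> rw [h4] <;> decide
  rw [conj_pow, hpow _ hodd3] at hx0
  refine ⟨x0, ?_, ?_⟩
  · apply orderOf_eq_prime
    · apply h.inj
      rw [map_pow, hx0, conj_pow, pow_two, hsq, map_one]
      group
    · intro h3
      rw [h3, map_one] at hx0
      apply hne
      calc a0 = v⁻¹ * (v * a0 * v⁻¹) * v := by group
        _ = 1 := by rw [← hx0]; group
  · intro α hα hαz
    obtain ⟨s, j, hs⟩ := hA α hα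
    apply h.inj
    have h3 := hs z
    rw [hαz, g.eq, map_mul, map_mul, map_inv, phi_T j g.mem] at h3
    obtain ⟨u, hu⟩ : ∃ u, u = v⁻¹ * s * phi chevE6 (Kb r) r j v := ⟨_, rfl⟩
    have h4 : u * t ^ r ^ j * u⁻¹ = t := by
      rw [hu]
      calc v⁻¹ * s * phi chevE6 (Kb r) r j v * t ^ r ^ j * (v⁻¹ * s * phi chevE6 (Kb r) r j v)⁻¹
          = v⁻¹ * (s * (phi chevE6 (Kb r) r j v * t ^ r ^ j * (phi chevE6 (Kb r) r j v)⁻¹) * s⁻¹) * v := by group
        _ = t := by rw [← h3]; group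
    have h5 := comm_a0 h.inj g hrig ha0 hch h4
    rw [hs, hx0, map_mul, map_mul, map_inv, phi_T j ha0, hpow _ hrodd.pow]
    calc s * (phi chevE6 (Kb r) r j v * a0 * (phi chevE6 (Kb r) r j v)⁻¹) * s⁻¹
        = v * (u * a0 * u⁻¹) * v⁻¹ := by rw [hu]; group
      _ = v * a0 * v⁻¹ := by rw [h5]

end

end Cfsg.Agent.H310.E6
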