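import Cfsg.Agent.H607.Car.E6Def
import Cfsg.Agent.H560.RealWE6

/-!
# `OCSt` for `E₆^ε(q)` from `GoodSt` (helper310, for S3852)

`z` good: if some root character is trivial at `z`, the reflection is represented in `C_X(z)` (even order); otherwise
`C_X(z)` is the torus and its normaliser maps onto `W(E₆)`.
-/

set_option autoImplicit false
set_option linter.unusedSectionVars false

namespace Cfsg.Agent.H310.E6

open CoxeterSystem Subgroup Cfsg Cfsg.Lie Cfsg.Lie.ChevalleyDatum
open Cfsg.Agent.ChevalleyStructure Cfsg.Agent.ChevalleyStructure.Elts Cfsg.Agent.ChevalleyStructure.CoxeterGeom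
  Cfsg.Agent.ChevalleyStructure.CoxeterGeomTypes Cfsg.Agent.ChevalleyStructure.NPerm
open Cfsg.Agent.Tits.Roots Cfsg.Agent.Tits.Core Cfsg.Agent.Nodes Cfsg.Agent.Nodes.Reps Cfsg.Agent.Nodes.BNOf
  Cfsg.Agent.Nodes.RGDChev Cfsg.Agent.Nodes.Bruhat
open Cfsg.Agent.KFacts.RgdField Cfsg.Agent.KFacts.RgdChevCoord
open Cfsg.Agent.BpExc Cfsg.Agent.BpExc.TorCent Cfsg.Agent.BpExc.TorChev Cfsg.Agent.BpExc.Tow
open Cfsg.Agent.BpExc.TowChev Cfsg.Agent.BpExc.Fr Cfsg.Agent.BpExc.LangFr
open Cfsg.Agent.BpExc.FamUntw Cfsg.Agent.Nodes.Coroot Cfsg.Agent.Nodes.SubComb Cfsg.Agent.Tits.RootComb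
open Cfsg.Agent.H696.GmnToral Cfsg.Agent.H720.TwFr Cfsg.Agent.H607.Car
open scoped commutatorElement

/-! ### the Weyl group is not solvable -/

/-- a criterion -/
theorem not_solvable_of_key {G : Type*} [Group G] {x y z : G} (hx : x ≠ 1) (key : x = z * ⁅x, y * x * y⁻¹⁆ * z⁻¹) :
    ¬ Group.IsSolvable G := by
  refine not_isSolvable_of_mem_derivedSeries hx fun n => ?_
  induction n with
  | zero => exact mem_top x
  | succ n ih =>
    rw [key, (derivedSeries_normal _ _).mem_comm_iff, inv_mul_cancel_left]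
    exact commutator_mem_commutator ih ((derivedSeries_normal _ _).conj_mem _ ih _)

theorem W6_not_solvable : ¬ Group.IsSolvable W6 := by
  have key : cs6.wordProd [0, 2] =
      cs6.wordProd ([2, 3, 2] ++ [0, 2] ++ [2, 0, 3, 2, 0, 4, 3, 2] ++ [0, 2] ++ [2, 3, 4, 0, 2, 3, 0, 2] ++ [2, 0] ++
        [2, 0, 3, 2, 0, 4, 3, 2] ++ [2, 0] ++ [2, 3, 4, 0, 2, 3, 0, 2] ++ [2, 3, 2]) :=
    Cfsg.Agent.H560.RealWE6.eq_of_eqv cs6 (by decide +kernel)
  have e1 : cs6.wordProd [2, 0] = (cs6.wordProd [0, 2])⁻¹ := by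
    rw [← wordProd_reverse]; rfl
  have e2 : cs6.wordProd [2, 3, 4, 0, 2, 3, 0, 2] = (cs6.wordProd [2, 0, 3, 2, 0, 4, 3, 2])⁻¹ := by
    rw [← wordProd_reverse]; rfl
  have e3 : (cs6.wordProd [2, 3, 2])⁻¹ = cs6.wordProd [2, 3, 2] := by
    rw [← wordProd_reverse]; rfl
  refine not_solvable_of_key (x := cs6.wordProd [0, 2]) (y := cs6.wordProd [2, 0, 3, 2, 0, 4, 3, 2])
    (z := cs6.wordProd [2, 3, 2]) ?_ ?_
  · intro h
    have h1 : cs6.wordProd [0, 2] = cs6.simple 0 * cs6.simple 2 := by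
      rw [wordProd_cons, wordProd_singleton]
    rw [h1, mul_eq_one_iff_eq_inv, cs6.inv_simple] at h
    have h2 := congrArg (fun w => rep cs6 hp6.isCartan w (sr 0) 0) h
    simp only [rep_simple_sr, rep_simple_eq, Pi.sub_apply, Pi.smul_apply, Pi.neg_apply, sr_self] at h2
    rw [sr_ne (by decide : (0 : Fin 6) ≠ 2), smul_zero, sub_zero] at h2
    exact absurd h2 (by decide)
  · rw [e3, commutatorElement_def]
    rw [wordProd_append, wordProd_append, wordProd_append, wordProd_append, wordProd_append, wordProd_append,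
      wordProd_append, wordProd_append, wordProd_append, e1, e2] at key
    rw [mul_inv_rev, mul_inv_rev, inv_inv]
    simp only [mul_assoc] at key ⊢
    exact key

/-! ### centralisers -/

section

variable {r : ℕ} [Fact r.Prime]

/-- representatives determine the element of the Weyl group -/
theorem rb_unique {w w' : W6} {g : Yb r} (h : Rb r w g) (h' : Rb r w' g) : w = w' := by
  have hfin : Finite W6 := finite_W hp6 cs6
  obtain ⟨j, hj⟩ := (tow hp6 cs6 (locFin_of_isAlgebraic r (Kb r)) r (k := Kb r)).rp_down h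
  obtain ⟨j', hj'⟩ := (tow hp6 cs6 (locFin_of_isAlgebraic r (Kb r)) r (k := Kb r)).rp_down h'
  obtain ⟨m, h1, h2⟩ := (tow hp6 cs6 (locFin_of_isAlgebraic r (Kb r)) r (k := Kb r)).dir j j'
  have e1 := (tow hp6 cs6 (locFin_of_isAlgebraic r (Kb r)) r (k := Kb r)).rp_mono h1 hj
  have e2 := (tow hp6 cs6 (locFin_of_isAlgebraic r (Kb r)) r (k := Kb r)).rp_mono h2 hj'
  have e3 := e1.inv.mul e2
  rw [inv_mul_cancel] at e3
  have e4 := RGD.eq_one_of_mem_B ((tow hp6 cs6 (locFin_of_isAlgebraic r (Kb r)) r (k := Kb r)).rgd m) e3 (one_mem _)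
  exact (inv_mul_eq_one.1 e4)

/-- a representative of `w` commutes with `t`, if `w` fixes the characters of `t` -/
theorem comm_of_fix {t : Yb r} (ht : t ∈ Tb r) {w : W6} {g : Yb r} (hg : Rb r w g)
    (hw : ∀ a, IsRoot cs6 hp6.isCartan a → ch hp6 (rp w a) t = ch hp6 a t) : g * t * g⁻¹ = t := by
  have hk : LocFin (Kb r) := locFin_of_isAlgebraic r _
  have hZ : center (Yb r) = ⊥ := Cfsg.Agent.H696.GmnUntw.center_eq_bot_of_simple (S1054.result chevE6 (by simp))
  have hTL : TL (Tj hp6 (k := Kb r)) = Tb r := TL_eq hp6 hk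
  have hXL : XL (Xj hp6 (k := Kb r)) = XX chevE6 6 (Kb r) := XL_eq hp6 hk
  have C : Coords cs6 hp6.isCartan (TL (Tj hp6 (k := Kb r))) (nc hp6 (Kb r)) (XL (Xj hp6 (k := Kb r))) (xc hp6)
      (ch hp6) := by
    rw [hTL, hXL]; exact coordsL hp6 cs6 hk r
  have h3 : g * t * g⁻¹ ∈ Tb r := by
    have := (Subgroup.mem_normalizer_iff.1 hg.mem_normalizer t).1 (by rw [hTL]; exact ht)
    rwa [hTL] at this
  refine ext_TT hp6 cs6 hk r hZ h3 ht fun a ha => ?_
  have h5 := C.chi_rp _ hg (ha.act w⁻¹) (t := t) (by rw [hTL]; exact ht)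
  rw [rep_apply_inv] at h5
  have h6 := hw _ (ha.act w⁻¹)
  have h7 : rp w (rep cs6 hp6.isCartan w⁻¹ a) = a := rep_apply_inv cs6 hp6.isCartan w a
  rw [h7] at h6
  rw [h5, h6]

/-- an element commuting with a torus element without trivial root characters is a representative -/
theorem exists_rb_of_comm {t : Yb r} (ht : t ∈ Tb r) (hne : ∀ a, IsRoot cs6 hp6.isCartan a → ch hp6 a t ≠ 1)
    {c : Yb r} (hc : c * t = t * c) : ∃ w, Rb r w c ∧
      ∀ a, IsRoot cs6 hp6.isCartan a → ch hp6 (rp w a) t = ch hp6 a t := by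
  have hfin : Finite W6 := finite_W hp6 cs6
  have hk : LocFin (Kb r) := locFin_of_isAlgebraic r _
  have hTL : TL (Tj hp6 (k := Kb r)) = Tb r := TL_eq hp6 hk
  have hXL : XL (Xj hp6 (k := Kb r)) = XX chevE6 6 (Kb r) := XL_eq hp6 hk
  have C : Coords cs6 hp6.isCartan (TL (Tj hp6 (k := Kb r))) (nc hp6 (Kb r)) (XL (Xj hp6 (k := Kb r))) (xc hp6)
      (ch hp6) := by
    rw [hTL, hXL]; exact coordsL hp6 cs6 hk r
  have ht' : t ∈ TL (Tj hp6 (k := Kb r)) := by rw [hTL]; exact ht
  obtain ⟨m, hm, w, k, hk', hkt, rfl⟩ := Fr.exists_form (tow hp6 cs6 hk r (k := Kb r)) C ht' ht' (c := c)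
    (by rw [GG_eq_top hp6 cs6 hk]; exact Subgroup.mem_top _) hc
  have hm1 : m = 1 := by
    have h1 : MM cs6 hp6.isCartan (XL (Xj hp6 (k := Kb r))) (ch hp6) t ≤ ⊥ :=
      RGD.Sup_le fun a ha => absurd ha.2 (hne a ha.1)
    exact Subgroup.mem_bot.1 (h1 hm)
  rw [hm1, one_mul]
  refine ⟨w, hk', fun a ha => ?_⟩
  have h5 := C.chi_rp _ hk' ha (t := t) ht'
  have h6 : k * t * k⁻¹ = t := by rw [hkt]; group
  rwa [h6] at h5

/-- the torus is commutative -/
theorem Tb_comm {s t : Yb r} (hs : s ∈ Tb r) (ht : t ∈ Tb r) : s * t = t * s := by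
  have hk : LocFin (Kb r) := locFin_of_isAlgebraic r _
  have hZ : center (Yb r) = ⊥ := Cfsg.Agent.H696.GmnUntw.center_eq_bot_of_simple (S1054.result chevE6 (by simp))
  refine ext_TT hp6 cs6 hk r hZ (mul_mem hs ht) (mul_mem ht hs) fun a ha => ?_
  rw [ch_mul hp6 cs6 hk r ha hs ht, ch_mul hp6 cs6 hk r ha ht hs, mul_comm]

variable {n : ℕ} {ε : ℤ} {X : Type} [Group X] {ι : X →* Yb r} {σ : MulAut (Yb r)}

theorem val_add {A : Type*} [AddCommGroup A] (c : Fin 6 → A) (a b : Fin 6 → ℤ) : val c (a + b) = val c a + val c b := by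
  unfold val
  rw [← Finset.sum_add_distrib]
  exact Finset.sum_congr rfl fun i _ => by rw [Pi.add_apply, add_smul]

theorem val_zsmul {A : Type*} [AddCommGroup A] (c : Fin 6 → A) (k : ℤ) (a : Fin 6 → ℤ) : val c (k • a) = k • val c a := by
  unfold val
  rw [Finset.smul_sum]
  exact Finset.sum_congr rfl fun i _ => by rw [Pi.smul_apply, smul_eq_mul, mul_smul]

/-- **Good elements.** -/
theorem oc_of_good (hι : Function.Injective ι) {z : X} {v t : Yb r} {m : Fin 6 → ℤ} (g : GoodAt r n ε ι σ z v t m) :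
    Even (Nat.card (Subgroup.centralizer ({z} : Set X))) ∨
    ¬ Group.IsSolvable (Subgroup.normalizer ((Subgroup.centralizer ({z} : Set X) : Subgroup X) : Set X)) := by
  have hfin : Finite W6 := finite_W hp6 cs6
  have hk : LocFin (Kb r) := locFin_of_isAlgebraic r _
  have hTL : TL (Tj hp6 (k := Kb r)) = Tb r := TL_eq hp6 hk
  have hcomm : ∀ x : X, x ∈ centralizer ({z} : Set X) ↔ (v⁻¹ * ι x * v) * t = t * (v⁻¹ * ι x * v) := by
    intro x
    rw [mem_centralizer_singleton_iff]
    constructor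
    · intro h
      have h1 := congrArg ι h
      rw [map_mul, map_mul, g.eq] at h1
      calc (v⁻¹ * ι x * v) * t = v⁻¹ * (ι x * (v * t * v⁻¹)) * v := by group
        _ = _ := by rw [h1]; group
    · intro h
      apply hι
      rw [map_mul, map_mul, g.eq]
      calc ι x * (v * t * v⁻¹) = v * ((v⁻¹ * ι x * v) * t) * v⁻¹ := by group
        _ = _ := by rw [h]; group
  by_cases hA : ∃ a, IsRoot cs6 hp6.isCartan a ∧ ch hp6 a t = 1
  · left
    obtain ⟨a, ha, hat⟩ := hA
    obtain ⟨w, i, hwi⟩ := id ha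
    have hma : val m a = 0 := (g.ker a ha).1 hat
    obtain ⟨s, hs⟩ : ∃ s : W6, s = rfl' cs6 w i := ⟨_, rfl⟩
    have hs1 : s ≠ 1 := by
      intro h1
      have h2 : rep cs6 hp6.isCartan s (rep cs6 hp6.isCartan w (sr i)) = - rep cs6 hp6.isCartan w (sr i) := by
        rw [hs]
        change rep cs6 hp6.isCartan (w * cs6.simple i * w⁻¹) _ = _
        rw [rep_mul_apply, rep_mul_apply, rep_inv_apply, rep_simple_sr, map_neg]
      rw [h1, map_one, Module.End.one_apply, ← hwi] at h2
      have h3 := ha.neg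
      rcases ha.pos_or_neg with h4 | h4
      · exact ha.not_pos_neg h4 (by rw [h2]; exact neg_nonpos.2 h4)
      · exact ha.not_pos_neg (by rw [h2]; exact neg_nonneg.2 h4) h4
    have hss : s * s = 1 := by
      rw [hs]
      change (w * cs6.simple i * w⁻¹) * (w * cs6.simple i * w⁻¹) = 1
      have h1 : (w * cs6.simple i * w⁻¹) * (w * cs6.simple i * w⁻¹) = w * (cs6.simple i * cs6.simple i) * w⁻¹ := by
        group
      rw [h1, cs6.simple_mul_simple_self, mul_one, mul_inv_cancel]
    have hFix : FixW m s := by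
      intro b
      have h1 : rp s b = b - cpr cs6 hp6.isCartan b a • a := by
        change rep cs6 hp6.isCartan s b = _
        rw [hs, rep_rfl'_eq, ← hwi]
      rw [h1, sub_eq_add_neg, ← neg_smul, val_add, val_zsmul, hma, smul_zero, add_zero]
    obtain ⟨x, hx⟩ := g.rep s
    have hxc : x ∈ centralizer ({z} : Set X) := by
      rw [hcomm]
      have h1 := comm_of_fix g.mem hx (g.fixt s hFix)
      rw [mul_inv_eq_iff_eq_mul] at h1
      exact h1
    have hpow : ∀ k : ℕ, Rb r (s ^ k) (v⁻¹ * ι (x ^ k) * v) := by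
      intro k
      induction k with
      | zero => rw [pow_zero, pow_zero, map_one, mul_one, inv_mul_cancel]; exact rp_one
      | succ k ih =>
        have e : v⁻¹ * ι (x ^ (k + 1)) * v = (v⁻¹ * ι (x ^ k) * v) * (v⁻¹ * ι x * v) := by
          rw [pow_succ, map_mul]; group
        rw [e, pow_succ]
        exact ih.mul hx
    have heven : Even (orderOf x) := by
      rw [← Nat.not_odd_iff_even]
      rintro ⟨k, hk'⟩
      have h1 := hpow (orderOf x)
      rw [pow_orderOf_eq_one, map_one, mul_one, inv_mul_cancel, hk', pow_succ, pow_mul, pow_two, hss, one_pow,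
        one_mul] at h1
      exact hs1 (rb_unique h1 rp_one)
    have h2 : orderOf x ∣ Nat.card (centralizer ({z} : Set X)) := by
      have h3 : orderOf (⟨x, hxc⟩ : centralizer ({z} : Set X)) = orderOf x := Subgroup.orderOf_mk x hxc
      rw [← h3]
      exact orderOf_dvd_natCard _
    exact heven.trans_dvd h2
  · right
    push Not at hA
    -- the centraliser is the torus
    have hcent : ∀ x : X, x ∈ centralizer ({z} : Set X) ↔ v⁻¹ * ι x * v ∈ Tb r := by
      intro x
      rw [hcomm]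
      constructor
      · intro h
        obtain ⟨w, hw, hfix⟩ := exists_rb_of_comm g.mem hA h
        have h1 := g.fixm w hfix
        have h2 : w = 1 := by
          refine BpExc.Fix.eq_one_of_fix (cs := cs6) (h := hp6.isCartan)
            { toFun := val m, map_zero' := by simp [val], map_add' := val_add m } (fun a ha h3 => ?_) (fun a => h1 a)
          exact hA a ha ((g.ker a ha).2 h3)
        rw [h2] at hw
        have h3 := hw.mem_of_one
        rwa [hTL] at h3
      · intro h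
        exact Tb_comm h g.mem
    -- the representatives normalise it
    have hnorm : ∀ x : X, v⁻¹ * ι x * v ∈ normalizer (Tb r : Set (Yb r)) →
        x ∈ normalizer ((centralizer ({z} : Set X) : Subgroup X) : Set X) := by
      intro x hx
      rw [mem_normalizer_iff]
      intro y
      rw [hcent, hcent]
      have e : v⁻¹ * ι (x * y * x⁻¹) * v = (v⁻¹ * ι x * v) * (v⁻¹ * ι y * v) * (v⁻¹ * ι x * v)⁻¹ := by
        rw [map_mul, map_mul, map_inv]; group
      rw [e]
      exact (mem_normalizer_iff.1 hx) _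
    intro hsol
    apply W6_not_solvable
    rw [← hTL] at hcent hnorm
    let θ : X →* Yb r := (MulAut.conj v⁻¹).toMonoidHom.comp ι
    have hθ : ∀ x, θ x = v⁻¹ * ι x * v := by
      intro x
      change v⁻¹ * ι x * v⁻¹⁻¹ = _
      rw [inv_inv]
    let N : Subgroup X := (normalizer ((TL (Tj hp6 (k := Kb r)) : Subgroup (Yb r)) : Set (Yb r))).comap θ
    have hN : ∀ x : X, x ∈ N ↔ v⁻¹ * ι x * v ∈ normalizer ((TL (Tj hp6 (k := Kb r)) : Subgroup (Yb r)) : Set (Yb r)) := by
      intro x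
      rw [← hθ]; rfl
    have hle : N ≤ normalizer ((centralizer ({z} : Set X) : Subgroup X) : Set X) := fun x hx => hnorm x ((hN x).1 hx)
    haveI := hsol
    haveI hNs : Group.IsSolvable N := Group.isSolvable_of_isSolvable_injective (inclusion_injective hle)
    let φ0 : N →* ↥(normalizer ((TL (Tj hp6 (k := Kb r)) : Subgroup (Yb r)) : Set (Yb r))) :=
      (θ.comp N.subtype).codRestrict _ (fun x => x.2)
    let φ : N →* Quo (TL (Tj hp6 (k := Kb r))) := (QuotientGroup.mk' _).comp φ0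
    haveI hφs : Group.IsSolvable φ.range := Group.isSolvable_of_surjective φ.rangeRestrict_surjective
    let ψ := wq cs6 (tow hp6 cs6 (locFin_of_isAlgebraic r (Kb r)) r (k := Kb r)).nsys
    have hψ : Function.Injective ψ := by
      rw [injective_iff_map_eq_one]
      intro w hw
      have h1 : Rb r w (1 : Yb r) := ⟨one_mem _, hw⟩
      exact rb_unique h1 rp_one
    have hψr : ∀ w, ψ w ∈ φ.range := by
      intro w
      obtain ⟨x, hx⟩ := g.rep w
      obtain ⟨h1, h2⟩ := id hx
      refine ⟨⟨x, (hN x).2 h1⟩, ?_⟩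
      refine Eq.trans ?_ h2.symm
      change (QuotientGroup.mk _ : Quo (TL (Tj hp6 (k := Kb r)))) = QuotientGroup.mk _
      exact congrArg _ (Subtype.ext (hθ x))
    exact Group.isSolvable_of_isSolvable_injective (f := ψ.codRestrict φ.range hψr) fun a b h =>
      hψ (congrArg Subtype.val h)

end

end Cfsg.Agent.H310.E6
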