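import Cfsg.Agent.H310.Car.E6Oc
import Cfsg.Agent.H310.Car.OCRow
import Cfsg.Agent.H460.Car.Bridge

/-!
# S3852: the rows `E₆(q)`, `²E₆(q)`, `q` even, from `GoodSt` (helper310)
-/

set_option autoImplicit false
set_option linter.unusedSectionVars false

namespace Cfsg.Agent.H310.E6

open Subgroup Cfsg.Agent.Solvable.Carter Cfsg.Agent.H18.Carter Cfsg.Agent.H381.Car
open Cfsg.Agent.H607.Car (Six GoodSt GoodAt Rigid OCSt Yb)
open Cfsg.Agent.KFacts.RgdFilt (HasFilt)

universe u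

/-- **T10** -/
theorem ocSt {n : ℕ} {ε : ℤ} {X : Type} [Group X] {ι : X →* Yb 2} {σ : MulAut (Yb 2)} (h : Six 2 n ε ι σ)
    (hG : GoodSt 2 n ε ι σ) : OCSt X := by
  intro z hz hz2 hr
  obtain ⟨v, t, m, g⟩ := hG z hz hz2 hz2 hr
  exact oc_of_good h.inj g

variable {G : Type u} [Group G] [Finite G] {S : Subgroup G} [S.Normal]

/-- the centraliser has even order -/
theorem two_dvd_of_ocSt (hFp : Fpf.{u}) (hFT : Cfsg.Agent.H460.Car.FT.{u}) (c : Ctx G S) {X : Type} [Group X]
    (hX : OCSt X) (e : S ≃* X) {K : Subgroup G} (hK : IsCarter K) {z : G} (hz : z ∈ S)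
    (hzK : K ≤ centralizer ({z} : Set G)) {p : ℕ} (hp : p.Prime) (hp2 : p ≠ 2) (ho : orderOf z = p) :
    2 ∣ Nat.card ↥(S ⊓ centralizer ({z} : Set G)) := by
  by_contra h2
  have hodd : Odd (Nat.card ↥(S ⊓ centralizer ({z} : Set G))) := by
    rw [← Nat.not_even_iff_odd, even_iff_two_dvd]; exact h2
  have hs : Group.IsSolvable ↥(S ⊓ centralizer ({z} : Set G)) := hFT _ hodd
  have h5 := Cfsg.Agent.H310.Car.solvable_normalizer_cent hFp c.min (S := S) inferInstance hK hzK hs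
  have hθ : Function.Injective e.toMonoidHom := e.injective
  have hE : e.toMonoidHom.range = ⊤ := MonoidHom.range_eq_top.2 e.surjective
  have h1 := Cfsg.Agent.H310.OC.map_cent hθ hE hz
  rw [top_inf_eq] at h1
  have hoz : orderOf (e ⟨z, hz⟩) = p := by
    rw [MulEquiv.orderOf_eq, Subgroup.orderOf_mk, ho]
  have hrig : Rigid (e ⟨z, hz⟩) := by
    intro g hg
    obtain ⟨s, rfl⟩ := e.surjective g
    rw [← map_inv, ← map_mul, ← map_mul] at hg ⊢
    obtain ⟨k, hk⟩ := mem_zpowers_iff.1 hg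
    rw [← map_zpow] at hk
    have h3 := congrArg Subtype.val (e.injective hk)
    have h3 : z ^ k = (s : G) * z * (s : G)⁻¹ := h3
    have h4 := c.eq_of_conj hK hzK (g := (s : G)) (by
      rw [← h3]
      intro y hy
      have h6 := mem_centralizer_singleton_iff.1 (hzK hy)
      exact mem_centralizer_singleton_iff.2 (Commute.zpow_right (show Commute y z from h6) k))
    exact congrArg e (Subtype.ext h4)
  rcases hX (e ⟨z, hz⟩) (hoz ▸ hp) (hoz ▸ hp2) hrig with h3 | h3
  · have h4 : Nat.card (((S ⊓ centralizer ({z} : Set G) : Subgroup G).subgroupOf S).map e.toMonoidHom) =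
        Nat.card (centralizer ({e.toMonoidHom ⟨z, hz⟩} : Set X)) := by rw [h1]
    rw [Cfsg.Agent.H310.OC.card_map hθ inf_le_left] at h4
    rw [h4] at h2
    exact h2 h3.two_dvd
  · apply h3
    rw [← Cfsg.Agent.H310.OC.solvable_map_iff hθ inf_le_left] at h5
    have h6 := Cfsg.Agent.H310.OC.map_normalizer_le hθ hE (A := S ⊓ centralizer ({z} : Set G)) inf_le_left
    rw [top_inf_eq, h1] at h6
    haveI := h5
    exact Group.isSolvable_of_isSolvable_injective (f := inclusion h6) (inclusion_injective _)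

/-- **The row.** -/
theorem nrAll_of_ocSt (hFp : Fpf.{u}) (hFT : Cfsg.Agent.H460.Car.FT.{u}) (hE : Cfsg.Agent.H460.Car.ExcOk.{u})
    (c : Ctx G S) (IH : IHr G) {X : Type} [Group X] (hX : OCSt X) (hF : HasFilt 2 ↥S) (e : S ≃* X) : NrAll S := by
  refine Cfsg.Agent.H460.Car.nrAll_even hFp hFT hE c IH hF ?_
  intro K hK r hr hr2 z hzS _ ho hzK
  exact Or.inl (two_dvd_of_ocSt hFp hFT c hX e hK hzS hzK hr hr2 ho)

end Cfsg.Agent.H310.E6
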